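import Cfsg.Agent.Lib.H8FrobAct

/-! Nilpotent fixed-point-free operator groups: consequences of solvability. -/

set_option autoImplicit false

namespace CfsgLib.NF

open Subgroup Cfsg CfsgLib.FT CfsgLib.FT.BGN CfsgLib.Cop CfsgLib.H8Fpf

universe u v

/-- A group with a nilpotent fixed-point-free operator group is solvable. -/
def Sol : Prop := ∀ (X : Type u) [Group X] [Finite X] (G F : Subgroup X), Cfg G F →
  Group.IsSolvable G

theorem cfg_of_action {G A : Type*} [Group G] [Finite G] [Group A] [Finite A]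
    (φ : A →* MulAut G) (N : Subgroup G) (F : Subgroup A) (hF : Group.IsNilpotent F)
    (hN : ∀ f ∈ F, ∀ n ∈ N, φ f n ∈ N) (hCF : ∀ g ∈ N, (∀ f ∈ F, φ f g = g) → g = 1) :
    Cfg (CopAut.L φ N) (CopAut.R φ F) := by
  have hfin := CopAut.finite_semidirect (φ := φ)
  refine ⟨CopAut.R_le_normalizer_iff.2 hN, isNilpotent_map hF _, ?_, ?_⟩
  · refine eq_bot_iff.2 ?_
    rintro _ ⟨⟨g, -, rfl⟩, f, -, e⟩
    have := congrArg SemidirectProduct.left e
    simp only [SemidirectProduct.left_inl, SemidirectProduct.left_inr] at this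
    rw [← this, map_one]; exact one_mem _
  · refine eq_bot_iff.2 ?_
    rintro _ ⟨⟨g, hg, rfl⟩, e⟩
    rw [hCF g hg (CopAut.inl_mem_centralizer_R_iff.1 e), map_one]; exact one_mem _

theorem fcfg_of_action' {G A : Type*} [Group G] [Finite G] [Group A] [Finite A]
    (φ : A →* MulAut G) (N : Subgroup G) (F H : Subgroup A) (hH : IsFrobeniusComplement H)
    (hker : frobeniusKernel H = (F : Set A)) (hN : ∀ a, ∀ n ∈ N, φ a n ∈ N)
    (hCF : ∀ g ∈ N, (∀ f ∈ F, φ f g = g) → g = 1) :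
    FCfg (CopAut.L φ N) (CopAut.R φ F) (CopAut.R φ H) := by
  have hfin := CopAut.finite_semidirect (φ := φ)
  have hp := Frob.isFrobeniusPair_of_frobeniusKernel_eq hH hker
  have hn := Frob.normal_of_frobeniusKernel_eq hker
  have hfrob : ∀ x ∈ H, x ≠ 1 → F ⊓ 𝐂[x] = ⊥ := fun x hx h1 => eq_bot_iff.2 fun f hf =>
    hp.isFrobeniusKernel.fpf (fun e => h1 (hp.disjoint e hx)) f hf.1 (hf.2 x rfl)
  refine ⟨cfg_of_action φ N F
    (isNilpotent_of_semiregular (le_normalizer_of_normal) hH.ne_bot hfrob) (fun f _ => hN f) hCF,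
    CopAut.R_le_normalizer_iff.2 fun a _ => hN a,
    H1.map_normalizer_le' le_normalizer_of_normal _, ?_⟩
  rintro _ ⟨x, hx, rfl⟩ h1
  refine eq_bot_iff.2 ?_
  rintro _ ⟨⟨f, hf, rfl⟩, e⟩
  have : f ∈ F ⊓ 𝐂[x] := ⟨hf, fun y hy => SemidirectProduct.inr_injective (φ := φ) (by
    rw [hy, map_mul, map_mul]; exact e _ rfl)⟩
  rw [hfrob x hx fun e => h1 (by rw [e, map_one]), mem_bot] at this
  rw [this, map_one]; exact one_mem _

theorem solvable_of_L {G A : Type*} [Group G] [Group A] {φ : A →* MulAut G}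
    (h : Group.IsSolvable (CopAut.L φ ⊤)) : Group.IsSolvable G :=
  solvable_of_solvable_injective (f := (SemidirectProduct.inl : G →* G ⋊[φ] A).codRestrict
    (CopAut.L φ ⊤) fun g => mem_map_of_mem _ trivial) fun _ _ e =>
      SemidirectProduct.inl_injective (congrArg Subtype.val e)

theorem s4124 (hS : Sol.{max u v}) {G : Type u} {A : Type v} [Group G] [Finite G] [Group A]
    [Finite A] [MulDistribMulAction A G] (hA : Group.IsNilpotent A)
    (hCF : ∀ g : G, (∀ a : A, a • g = g) → g = 1) : Group.IsSolvable G := by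
  let φ := MulDistribMulAction.toMulAut A G
  have hfin := CopAut.finite_semidirect (φ := φ)
  exact solvable_of_L (hS _ _ _ (cfg_of_action φ ⊤ ⊤ inferInstance (fun _ _ _ _ => trivial)
    fun g _ h => hCF g fun a => h a trivial))

theorem s4121 (hS : Sol.{max u v}) {G : Type u} {A : Type v} [Group G] [Finite G] [Group A]
    [Finite A] [MulDistribMulAction A G]
    (Fk Hc : Subgroup A) (hHc : IsFrobeniusComplement Hc)
    (hker : frobeniusKernel Hc = (Fk : Set A))
    (N : Subgroup G) (hNA : ∀ (a : A) (n : G), n ∈ N → a • n ∈ N)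
    (hCNF : ∀ n ∈ N, (∀ f ∈ Fk, f • n = n) → n = 1)
    (g : G) (hg : ∀ h ∈ Hc, g⁻¹ * h • g ∈ N) : ∃ c : G, (∀ h ∈ Hc, h • c = c) ∧ c⁻¹ * g ∈ N := by
  let φ := MulDistribMulAction.toMulAut A G
  have hfin := CopAut.finite_semidirect (φ := φ)
  have c := fcfg_of_action' φ N Fk Hc hHc hker hNA hCNF
  obtain ⟨_, ⟨n, hn, rfl⟩, e⟩ := c.cover _ le_rfl (hS _ _ _ c.toCfg) c.norm c.hG
    (SemidirectProduct.inl g) (by
      rintro _ ⟨h, hh, rfl⟩
      refine ⟨_, hg h hh, ?_⟩
      rw [map_mul, map_inv, mul_assoc, mul_assoc, ← mul_assoc (SemidirectProduct.inr h), ← map_inv (SemidirectProduct.inr),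
        ← SemidirectProduct.inl_aut]
      rfl)
  rw [← map_mul] at e
  exact ⟨g * n, CopAut.inl_mem_centralizer_R_iff.1 e, by simpa using inv_mem hn⟩

end CfsgLib.NF
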