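import Cfsg.Agent.Lib.NF.Defs

/-! A wreath product argument for fixed-point-free operator groups. -/

set_option autoImplicit false

namespace CfsgLib.NF

open Subgroup CfsgLib.H9 CfsgLib.Cop
open scoped commutatorElement

variable {k : Type*} [Field k] {W : Type*} [AddCommGroup W] [Module k W] {Y : Type*} [Group Y]
  [Finite Y] {ρ : Y →* Module.End k W} {Q F : Subgroup Y} {U : Submodule k W}

/-- an element acting as a scalar on `U` and trivially on the other translates of `U` -/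
theorem wreath_elt (hFQ : F ≤ normalizer (Q : Set Y))
    (hfp : ∀ N ≤ Q, F ≤ normalizer (N : Set Y) → ∀ g ∈ Q, (∀ f ∈ F, ⁅g, f⁆ ∈ N) → g ∈ N)
    {e : Y} (he : e ∈ Q) {c : k} (hc : ∀ v ∈ U, ρ e v = c • v)
    (hE : ∀ f ∈ F, f ∉ stabSub ρ U → ∀ v ∈ U, ρ e (ρ f v) = ρ f v) : ∀ v ∈ U, c • v = v := by
  classical
  have key : ∀ T : Finset F, ∃ g ∈ Q, ∀ f ∈ F, ∀ v ∈ U,
      ((∃ t ∈ T, (t : Y)⁻¹ * f ∈ stabSub ρ U) → ρ g (ρ f v) = c • ρ f v) ∧
      ((¬ ∃ t ∈ T, (t : Y)⁻¹ * f ∈ stabSub ρ U) → ρ g (ρ f v) = ρ f v) := by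
    intro T
    induction T using Finset.induction_on with
    | empty => exact ⟨1, one_mem _, fun f _ v _ => ⟨by simp, by simp⟩⟩
    | insert t T _ ih =>
      obtain ⟨g, hg, h⟩ := ih
      by_cases h1 : ∃ s ∈ T, (s : Y)⁻¹ * t ∈ stabSub ρ U
      · obtain ⟨s, hs, h1⟩ := h1
        refine ⟨g, hg, fun f hf v hv => ⟨fun ⟨x, hx, e⟩ => (h f hf v hv).1 ?_, fun e =>
          (h f hf v hv).2 fun ⟨x, hx, e'⟩ => e ⟨x, Finset.mem_insert_of_mem hx, e'⟩⟩⟩
        rcases Finset.mem_insert.1 hx with rfl | hx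
        · exact ⟨s, hs, by simpa [mul_assoc] using mul_mem h1 e⟩
        · exact ⟨x, hx, e⟩
      refine ⟨g * (t * e * (t : Y)⁻¹), mul_mem hg ((mem_normalizer_iff.1 (hFQ t.2) e).1 he),
        fun f hf v hv => ?_⟩
      have e1 : ρ (g * (t * e * (t : Y)⁻¹)) (ρ f v) = ρ g (ρ t (ρ e (ρ ((t : Y)⁻¹ * f) v))) := by
        simp only [rho_mul_apply]
      have e2 : ∀ w, ρ t (ρ ((t : Y)⁻¹ * f) w) = ρ f w := fun w => by
        rw [← rho_mul_apply, mul_inv_cancel_left]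
      by_cases h2 : (t : Y)⁻¹ * f ∈ stabSub ρ U
      · refine ⟨fun _ => ?_, fun e => absurd ⟨t, Finset.mem_insert_self _ _, h2⟩ e⟩
        rw [e1, hc _ (h2 v hv), map_smul, map_smul, e2, (h f hf v hv).2 fun ⟨x, hx, e⟩ =>
          h1 ⟨x, hx, by simpa [mul_assoc] using mul_mem e (inv_mem h2)⟩]
      · rw [e1, hE _ (mul_mem (inv_mem t.2) hf) h2 v hv, e2]
        refine ⟨fun ⟨x, hx, e⟩ => (h f hf v hv).1 ⟨x, ?_, e⟩, fun e =>
          (h f hf v hv).2 fun ⟨x, hx, e'⟩ => e ⟨x, Finset.mem_insert_of_mem hx, e'⟩⟩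
        exact (Finset.mem_insert.1 hx).resolve_left fun e' => h2 (e' ▸ e)
  have := Fintype.ofFinite F
  obtain ⟨g, hg, h⟩ := key Finset.univ
  let V : Submodule k W := Submodule.span k {w | ∃ f ∈ F, ∃ v ∈ U, w = ρ f v}
  have hV : ∀ w ∈ V, ρ g w = c • w := fun w hw => by
    have : V ≤ LinearMap.eqLocus (ρ g) (c • LinearMap.id) := Submodule.span_le.2 (by
      rintro _ ⟨f, hf, v, hv, rfl⟩
      exact (h f hf v hv).1 ⟨⟨f, hf⟩, Finset.mem_univ _, by simp [one_mem]⟩)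
    exact this hw
  have hF : F ≤ stabSub ρ V := fun f hf w hw => by
    have : V ≤ V.comap (ρ f) := Submodule.span_le.2 (by
      rintro _ ⟨f', hf', v, hv, rfl⟩
      exact Submodule.subset_span ⟨f * f', mul_mem hf hf', v, hv, (rho_mul_apply ..).symm⟩)
    exact this hw
  have hgV : g ∈ stabSub ρ V := fun w hw => hV w hw ▸ V.smul_mem c hw
  have := hfp (Q ⊓ fixSub ρ V) inf_le_left (fun f hf => inf_normalizer_le_normalizer_inf
    ⟨hFQ hf, mem_normalizer_fixSub (hF hf)⟩) g hg fun f hf => ⟨commutator_le_left_of_le_normalizer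
      hFQ (commutator_mem_commutator hg hf), fun w hw => by
        have h3 := inv_mem hgV _ (inv_mem (hF hf) w hw)
        simp only [commutatorElement_def, rho_mul_apply]
        rw [hV _ (hF hf _ h3), ← map_smul, ← hV _ h3, rho_apply_inv_apply, rho_apply_inv_apply]⟩
  intro v hv
  have h4 : v ∈ V := Submodule.subset_span ⟨1, one_mem _, v, hv, by simp⟩
  rw [← hV v h4, this.2 v h4]

/-- If `Q` is generated by the `F`-conjugates of `K` and `K` acts trivially on the translates of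
`U` other than `U`, no element of `Q` acts on `U` as a nontrivial scalar. -/
theorem wreath {K : Subgroup Y} (hFQ : F ≤ normalizer (Q : Set Y)) (hQU : Q ≤ stabSub ρ U)
    (hK : K ≤ Q)
    (hgen : ∀ B : Subgroup Y, (∀ f ∈ F, ∀ x ∈ K, f * x * f⁻¹ ∈ B) → Q ≤ B)
    (hP : ∀ f ∈ F, f ∉ stabSub ρ U → ∀ x ∈ K, ∀ v ∈ U, ρ x (ρ f v) = ρ f v)
    (hfp : ∀ N ≤ Q, F ≤ normalizer (N : Set Y) → ∀ g ∈ Q, (∀ f ∈ F, ⁅g, f⁆ ∈ N) → g ∈ N)
    {z : Y} (hz : z ∈ Q) {c : k} (hc : ∀ v ∈ U, ρ z v = c • v) : ∀ v ∈ U, c • v = v := by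
  let E : Subgroup Y := Q ⊓ ⨅ f ∈ F, ⨅ _ : f ∉ stabSub ρ U, fixSub ρ (U.map (ρ f))
  have hE : ∀ e, e ∈ E ↔ e ∈ Q ∧ ∀ f ∈ F, f ∉ stabSub ρ U → ∀ v ∈ U, ρ e (ρ f v) = ρ f v := by
    intro e
    simp only [E, mem_inf, mem_iInf, mem_fixSub, Submodule.mem_map, forall_exists_index, and_imp,
      forall_apply_eq_imp_iff₂]
  have h1 : Q ≤ fixSub ρ U ⊔ E := hgen _ fun f hf x hx => by
    by_cases h : f ∈ stabSub ρ U
    · refine mem_sup_right ((hE _).2 ⟨(mem_normalizer_iff.1 (hFQ hf) x).1 (hK hx),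
        fun f' hf' h' v hv => ?_⟩)
      rw [rho_mul_apply, rho_mul_apply, ← rho_mul_apply ρ f⁻¹, hP _ (mul_mem (inv_mem hf) hf')
        (fun e => h' (by simpa using mul_mem h e)) x hx v hv, ← rho_mul_apply, mul_inv_cancel_left]
    · refine mem_sup_left fun v hv => ?_
      rw [rho_mul_apply, rho_mul_apply, hP _ (inv_mem hf) (fun e => h (inv_mem_iff.1 e)) x hx v hv,
        rho_apply_inv_apply]
  obtain ⟨d, hd, e, he, rfl⟩ := FT.mem_sup_norm (fun e he => mem_normalizer_fixSub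
    (hQU ((hE e).1 he).1)) (h1 hz)
  obtain ⟨e1, e2⟩ := (hE e).1 he
  exact wreath_elt hFQ hfp e1 (fun v hv => by
    rw [← hc v hv, rho_mul_apply, hd _ (hQU e1 v hv)]) e2

end CfsgLib.NF
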