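import Cfsg.Agent.Lib.NF.XMod
import Cfsg.Agent.Lib.H9HHGroup
import Cfsg.Agent.Lib.H9Fit
import Cfsg.Agent.Lib.H1TwoConj

/-! Fitting subgroup and Fitting height of `C_X(R)` for a group `FR` acting on `X`, `C_X(F) = 1`. -/

set_option autoImplicit false

namespace CfsgLib.NF

open Subgroup Cfsg CfsgLib.FT CfsgLib.FT.BGN CfsgLib.Cop CfsgLib.H8Fpf CfsgLib.H9 CfsgLib.CommCalc
open scoped commutatorElement

universe u

variable {Γ : Type u} [Group Γ] [Finite Γ] {X F R : Subgroup Γ}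

omit [Finite Γ] in
theorem dich_map {Y : Type*} [Group Y] (f : Γ →* Y) (h : ∀ B : Subgroup Γ, R ⊓ B = ⊥ ∨ R ≤ B)
    (B : Subgroup Y) : R.map f ⊓ B = ⊥ ∨ R.map f ≤ B :=
  (h (B.comap f)).imp (fun e => eq_bot_iff.2 (by
    rintro _ ⟨⟨x, hx, rfl⟩, hB⟩
    rw [mem_bot.1 (e.le ⟨hx, hB⟩), map_one]
    exact one_mem _)) map_le_iff_le_comap.2

omit [Finite Γ] in
theorem EF.map {Y : Type*} [Group Y] (h : EF F R) (f : Γ →* Y) : EF (F.map f) (R.map f) :=
  ⟨H1.map_normalizer_le' h.norm f,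
    (h.cop.coprime_dvd_left (card_map_dvd _ f)).coprime_dvd_right (card_map_dvd _ f),
    by rw [← map_commutator, h.comm], dich_map f h.dR, by
      rw [← map_commutator]; exact dich_map f h.dF⟩

omit [Finite Γ] in
theorem dich_sub {L : Subgroup Γ} {R' : Subgroup L}
    (h : ∀ B : Subgroup Γ, R'.map L.subtype ⊓ B = ⊥ ∨ R'.map L.subtype ≤ B) (B : Subgroup L) :
    R' ⊓ B = ⊥ ∨ R' ≤ B :=
  (h (B.map L.subtype)).imp (fun e => by
    rwa [← map_inf _ _ _ L.subtype_injective, map_eq_bot_iff_of_injective _ L.subtype_injective]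
      at e) (map_le_map_iff_of_injective L.subtype_injective).1

omit [Finite Γ] in
theorem EF.subgroupOf (h : EF F R) {L : Subgroup Γ} (h1 : F ≤ L) (h2 : R ≤ L) :
    EF (F.subgroupOf L) (R.subgroupOf L) :=
  ⟨fun _ hr => le_normalizer_comap _ (h.norm hr), by
      rw [Nat.card_congr (subgroupOfEquivOfLe h1).toEquiv,
        Nat.card_congr (subgroupOfEquivOfLe h2).toEquiv]
      exact h.cop,
    map_injective L.subtype_injective (by
      rw [map_commutator, map_subgroupOf_eq_of_le h1, map_subgroupOf_eq_of_le h2, h.comm]),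
    dich_sub (by rw [map_subgroupOf_eq_of_le h2]; exact h.dR),
    dich_sub (by rw [map_commutator, map_subgroupOf_eq_of_le h1]; exact h.dF)⟩

/-- the configuration -/
structure EC (X F R : Subgroup Γ) : Prop extends EF F R where
  normal : X.Normal
  sol : Group.IsSolvable X
  copR : (Nat.card R).Coprime (Nat.card X)
  copF : (Nat.card F).Coprime (Nat.card X)
  fpf : X ⊓ 𝐂(F) = ⊥

namespace EC
variable (h : EC X F R)
include h

theorem cent_map {Y : Type*} [Group Y] (f : Γ →* Y) :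
    X.map f ⊓ 𝐂(R.map f) = (X ⊓ 𝐂(R)).map f :=
  haveI := h.normal
  map_inf_centralizer_map f le_normalizer_of_normal
    (h.copR.coprime_dvd_right (card_dvd_of_le inf_le_left))
    (Or.inr (isSolvable_of_le h.sol inf_le_left))

theorem map {Y : Type u} [Group Y] [Finite Y] (f : Γ →* Y) (hf : Function.Surjective f) :
    EC (X.map f) (F.map f) (R.map f) :=
  haveI := h.normal
  ⟨h.toEF.map f, h.normal.map f hf, solvable_map h.sol f,
    (h.copR.coprime_dvd_left (card_map_dvd _ f)).coprime_dvd_right (card_map_dvd _ f),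
    (h.copF.coprime_dvd_left (card_map_dvd _ f)).coprime_dvd_right (card_map_dvd _ f), by
      rw [map_inf_centralizer_map f le_normalizer_of_normal
        (h.copF.coprime_dvd_right (card_dvd_of_le inf_le_left))
        (Or.inr (isSolvable_of_le h.sol inf_le_left)), h.fpf, Subgroup.map_bot]⟩

theorem mem_of_comm {N : Subgroup Γ} (h1 : N ≤ X) (h2 : F ≤ 𝐍(N)) {g : Γ} (hg : g ∈ X)
    (e : ∀ f ∈ F, ⁅g, f⁆ ∈ N) : g ∈ N := by
  obtain ⟨n, hn, c, hc, rfl⟩ := exists_mul_centralizer_of_commutator_mem h2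
    (h.copF.coprime_dvd_right (card_dvd_of_le h1)) (Or.inr (isSolvable_of_le h.sol h1)) e
  rw [mem_bot.1 (h.fpf.le ⟨(mul_mem_cancel_left (h1 hn)).1 hg, hc⟩), mul_one]
  exact hn

theorem cent {Q : Subgroup Γ} (hQX : Q ≤ X) (hQ : Group.IsNilpotent Q) (hF : F ≤ 𝐍(Q))
    (hR : R ≤ 𝐍(Q)) {x : Γ} (hx : x ∈ Q) (hxR : x ∈ 𝐂(R)) (M : Subgroup Γ) :
    M ≤ X → Q ⊔ F ⊔ R ≤ 𝐍(M) → (Nat.card Q).Coprime (Nat.card M) → M ⊓ 𝐂(R) ≤ 𝐂[x] →
      ⁅M, zpowers x⁆ = ⊥ := by
  induction M using WellFoundedLT.induction with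
  | ind M ih =>
  intro hMX hM hcop hc0
  by_cases h0 : M = ⊥
  · rw [h0, commutator_bot_left]
  obtain ⟨N, ℓ, hℓ, hd, hlt, hN, hc, hp, -⟩ := exists_chief_sec (isSolvable_of_le h.sol hMX) h0 hM
  have := Fact.mk hℓ
  have hcop' := hcop.coprime_dvd_right (card_dvd_of_le hlt.le)
  have lQ : Q ≤ Q ⊔ F ⊔ R := le_sup_left.trans le_sup_left
  have lF : F ≤ Q ⊔ F ⊔ R := le_sup_right.trans le_sup_left
  have lR : R ≤ Q ⊔ F ⊔ R := le_sup_right
  have hNX := hlt.le.trans hMX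
  refine commutator_eq_bot_of_le_of_centralizes ((H9.le_relCent_iff
    ((zpowers_le.2 (lQ hx)).trans hN)).1 (zpowers_le.2 ?_))
    (ih N hlt hNX hN hcop' ((inf_le_inf_right _ hlt.le).trans hc0))
    (hcop'.coprime_dvd_left (card_dvd_of_le (zpowers_le.2 hx)))
  obtain ⟨W, _, _, _, ρ, ι, S⟩ := exists_secRep ℓ (Q ⊔ F ⊔ R).subtype M N hlt.le (fun g => hM g.2)
    (fun g => hN g.2) hc hp
  have cF := Nat.card_congr (subgroupOfEquivOfLe lF).toEquiv
  have cQ := Nat.card_congr (subgroupOfEquivOfLe lQ).toEquiv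
  have cR := Nat.card_congr (subgroupOfEquivOfLe lR).toEquiv
  refine ⟨hN (lQ hx), (S.rho_eq_one_iff ⟨x, lQ hx⟩).1 ((h.toEF.subgroupOf lF lR).rho_eq_one
    (natCast_ne_zero_of_coprime _ ℓ (cF ▸ h.copF.coprime_dvd_right (hd.trans (card_dvd_of_le hMX))))
    (S.normOp_eq_zero _ fun m hm e => h.mem_of_comm hNX (lF.trans hN) (hMX hm) fun f hf => by
      rw [← commutatorElement_inv]; exact inv_mem (e ⟨f, lF hf⟩ hf))
    (Q.subgroupOf _) (fun _ hf => le_normalizer_comap _ (hF hf))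
    (fun _ hr => le_normalizer_comap _ (hR hr)) (isNilpotent_subgroupOf hQ _)
    (by rw [cR, cQ]; exact h.copR.coprime_dvd_right (card_dvd_of_le hQX))
    (natCast_ne_zero_of_coprime _ ℓ (cQ ▸ hcop.coprime_dvd_right hd))
    (fun D hD h1 g hg e => ?_) _ hx (fun r hr => Subtype.ext (hxR r hr)) fun w => ?_)⟩
  · have := h.mem_of_comm (N := D.map (Q ⊔ F ⊔ R).subtype)
      ((map_mono hD).trans ((map_comap_le ..).trans hQX))
      (by
        have := H1.map_normalizer_le' h1 (Q ⊔ F ⊔ R).subtype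
        rwa [map_subgroupOf_eq_of_le lF] at this) (hQX hg)
      fun f hf => mem_map_of_mem (Q ⊔ F ⊔ R).subtype (e ⟨f, lF hf⟩ hf)
    exact (mem_map_iff_mem (Q ⊔ F ⊔ R).subtype_injective).1 this
  refine LinearMap.congr_fun (S.ext (T := ρ _ ∘ₗ normOp ρ _) fun a ha => ?_) w
  obtain ⟨m, hm, e1, e2⟩ := S.exists_normOp_eq (R.subgroupOf (Q ⊔ F ⊔ R)) ha
  obtain ⟨n, hn, c, hc', rfl⟩ := exists_mul_centralizer_of_commutator_mem (lR.trans hN)
    (h.copR.coprime_dvd_right (card_dvd_of_le hNX)) (Or.inr (isSolvable_of_le h.sol hNX))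
    (g := m) fun r hr => by
      rw [← commutatorElement_inv]; exact inv_mem (e1 ⟨r, lR hr⟩ hr)
  have h5 : c ∈ M := (mul_mem_cancel_left (hlt.le hn)).1 hm
  have e4 : ι (n * c) = ι c := by
    rw [S.map_mul _ (hlt.le hn) _ h5, (S.eq_zero_iff _ (hlt.le hn)).2 hn, zero_add]
  rw [LinearMap.comp_apply, ← e2, e4, ← S.conj _ _ h5]
  exact congrArg ι (mul_inv_eq_iff_eq_mul.2
    (mem_centralizer_singleton_iff.1 (hc0 ⟨h5, hc'⟩)).symm)

theorem pCore_eq_bot {q : ℕ} [Fact q.Prime] (h0 : pCoreOf q X = ⊥) :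
    pCoreOf q (X ⊓ 𝐂(R)) = ⊥ := by
  haveI := h.normal
  haveI := fittingOf_normal' X
  obtain ⟨S, hS, hS'⟩ := exists_invariant_sylowOf q (A := F ⊔ R) (G := X) le_normalizer_of_normal
    (by
      rw [sup_comm]
      exact (Nat.Coprime.mul_left h.copR h.copF).coprime_dvd_left (card_sup_dvd_mul h.norm))
    (Or.inr h.sol)
  have h1 := H1.pCoreOf_le_sylow (sylow_iff_hall.2 (sylowOf_inf_centralizer le_normalizer_of_normal
    h.copR (Or.inr h.sol) hS (le_sup_right.trans hS')))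
  obtain ⟨s1, s2, -⟩ := isPiHallOf_singleton_iff.1 hS
  have h2 : (Nat.card (fittingOf X)).Coprime q := by
    rw [← H1.pCoreOf_sup_piCoreOf_of_isNilpotent q (H1.fittingOf_isNilpotent X),
      H1.pCoreOf_fittingOf, h0, bot_sup_eq]
    exact H1.piCoreOf_compl_coprime q _
  have h3 := coprime_card_of_isPGroup h2 s2
  have h4 : ⁅pCoreOf q (X ⊓ 𝐂(R)), fittingOf X ⊓ 𝐂(R)⁆ = ⊥ := H1.commutator_eq_bot_of_coprime
    (H1.le_normalizer_inf le_normalizer_of_normal
      (((H1.pCoreOf_le _).trans inf_le_right).trans le_normalizer))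
    ((inf_le_inf_right _ (H1.fittingOf_le X)).trans (H1.le_normalizer_pCoreOf _))
    ((h3.symm.coprime_dvd_left (card_dvd_of_le (h1.trans inf_le_left))).coprime_dvd_right
      (card_dvd_of_le inf_le_left))
  refine eq_bot_iff.2 fun x hx => ?_
  have h5 := h.cent s1 s2.isNilpotent (le_sup_left.trans hS') (le_sup_right.trans hS')
    (h1 hx).1 (h1 hx).2 (fittingOf X) (H1.fittingOf_le X) le_normalizer_of_normal h3.symm
    fun m hm => mem_centralizer_singleton_iff.2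
      (commutator_eq_bot_iff_le_centralizer.1 h4 hx m hm)
  have h6 := H1.inf_centralizer_fittingOf_le (H1.layerIn_eq_bot_of_isSolvable h.sol)
    ⟨s1 (h1 hx).1, commutator_eq_bot_iff_le_centralizer'.1 h5 (mem_zpowers x)⟩
  exact orderOf_eq_one_iff.1 (Nat.eq_one_of_dvd_coprimes h3 (orderOf_dvd_natCard _ h6)
    (orderOf_dvd_natCard _ (h1 hx).1))

theorem pCore_le (q : ℕ) [Fact q.Prime] : pCoreOf q (X ⊓ 𝐂(R)) ≤ pCoreOf q X := by
  haveI := h.normal
  haveI : (pCoreOf q X).Normal := normalizer_eq_top_iff.1 (eq_top_iff.2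
    (le_normalizer_of_normal.trans (H1.normalizer_le_normalizer_pCoreOf X)))
  let f := QuotientGroup.mk' (pCoreOf q X)
  have hk : f.ker = pCoreOf q X := QuotientGroup.ker_mk' _
  have hf := QuotientGroup.mk'_surjective (pCoreOf q X)
  have h1 := h.map f hf
  haveI := h1.normal
  haveI : (pCoreOf q (X.map f)).Normal := normalizer_eq_top_iff.1 (eq_top_iff.2
    (le_normalizer_of_normal.trans (H1.normalizer_le_normalizer_pCoreOf _)))
  have h2 : (pCoreOf q (X.map f)).comap f ≤ f.ker := by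
    have h4 : (X.map f).comap f ≤ X := by
      rw [comap_map_eq, hk]; exact sup_le le_rfl (H1.pCoreOf_le _)
    have h5 : IsPGroup q f.ker := by rw [hk]; exact H1.pCoreOf_isPGroup _
    rw [hk]
    exact H1.le_pCoreOf ((comap_mono (H1.pCoreOf_le _)).trans h4) le_normalizer_of_normal
      ((H1.pCoreOf_isPGroup _).comap_of_ker_isPGroup f h5)
  have h3 := h1.pCore_eq_bot (q := q) (by
    rw [← map_comap_eq_self_of_surjective hf (pCoreOf q (X.map f))]
    exact (Subgroup.map_eq_bot_iff _).2 h2)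
  rw [h.cent_map] at h3
  rw [← hk, ← Subgroup.map_eq_bot_iff, eq_bot_iff, ← h3]
  exact H1.map_pCoreOf_le _ f

theorem fit_le : fittingOf (X ⊓ 𝐂(R)) ≤ fittingOf X :=
  H1.fittingOf_le_of_forall fun q _ => (h.pCore_le q).trans (H1.pCoreOf_le_fittingOf q X)

theorem eq_bot {r : ℕ} (hr : r.Prime) (hnF : ¬ ∃ k : ℕ, r = 2 ^ k + 1) (hR : ∀ y ∈ R, y ^ r = 1)
    (h0 : X ⊓ 𝐂(R) = ⊥) : X = ⊥ := by
  by_contra hne
  haveI := h.normal
  obtain ⟨N, ℓ, hℓ, hd, hlt, hN, hc, hp, -⟩ := exists_chief_sec (A := F ⊔ R) h.sol hne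
    le_normalizer_of_normal
  have := Fact.mk hℓ
  have := Fact.mk hr
  have key : ¬ F ≤ relCent N X := fun e => hlt.not_ge fun g hg =>
    h.mem_of_comm hlt.le (le_sup_left.trans hN) hg fun f hf => by
      rw [← commutatorElement_inv]; exact inv_mem ((e hf).2 g hg)
  have hR0 : R ≠ ⊥ := fun e => key (by rw [← h.comm, e, commutator_bot_right]; exact bot_le)
  obtain ⟨⟨x, hx⟩, hx1⟩ := ne_bot_iff_exists_ne_one.1 hR0
  replace hx1 : x ≠ 1 := fun e => hx1 (Subtype.ext e)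
  have hRx : R ≤ zpowers x := (h.dR _).resolve_left fun e => hx1 (mem_bot.1 (e.le ⟨hx, mem_zpowers x⟩))
  have hxN := hN (mem_sup_right hx)
  obtain ⟨q, d, j, m, hq, -, e1, e2, e3, -⟩ := hh_sec ℓ (K := F) hlt.le hc hp le_normalizer_of_normal
    (le_sup_left.trans hN) (le_normalizer_of_normal (K := ⊤) trivial) hxN (h.norm hx)
    (h.copF.coprime_dvd_right hd) hr
    (h.cop.symm.coprime_dvd_right (orderOf_eq_prime (hR x hx) hx1 ▸ orderOf_dvd_natCard _ hx))
    (n := 0) (fun a _ => by simp [hR x hx]) (by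
      by_contra! e
      refine key (h.comm.ge.trans (commutator_le.2 fun g hg y hy => commutator_mem_of_mem_zpowers
        (H9.le_normalizer_relCent (le_sup_right.trans hN) le_normalizer_of_normal hx)
        ⟨hN (mem_sup_left (h.comm.le (commutator_mem_commutator hg hx))), fun a ha => ?_⟩ (hRx hy)))
      simpa using e g hg a ha)
    (Nat.sub_one_lt (pow_pos hr.pos _).ne') (Or.inr ⟨rfl, Or.inr fun a ha e => by
      obtain ⟨n, hn, c, hc', rfl⟩ := exists_mul_centralizer_of_commutator_mem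
        (le_sup_right.trans hN) (h.copR.coprime_dvd_right (card_dvd_of_le hlt.le))
        (Or.inr (isSolvable_of_le h.sol hlt.le)) (g := a) fun y hy =>
          commutator_mem_of_mem_zpowers hxN (by
            rw [← commutatorElement_inv]; exact inv_mem e) (hRx hy)
      rw [mem_bot.1 (h0.le ⟨(mul_mem_cancel_left (hlt.le hn)).1 ha, hc'⟩), mul_one]
      exact hn⟩)
  exact hnF (fermat_of_pow_add_one hr (fun e => hnF ⟨0, e⟩) hq e3).2

end EC

theorem height {r : ℕ} (hr : r.Prime) (hnF : ¬ ∃ k : ℕ, r = 2 ^ k + 1) (n : ℕ) :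
    ∀ (Γ : Type u) [Group Γ] [Finite Γ] (X F R : Subgroup Γ), EC X F R → (∀ y ∈ R, y ^ r = 1) →
      lfs (X ⊓ 𝐂(R)) n = ⊥ → lfs X n = ⊥ := by
  induction n with
  | zero => exact fun Γ _ _ X F R h hR h0 => h.eq_bot hr hnF hR h0
  | succ n ih =>
    intro Γ _ _ X F R h hR h0
    haveI := h.normal
    haveI := fittingOf_normal' X
    let f := QuotientGroup.mk' (fittingOf X)
    have hk : f.ker = fittingOf X := QuotientGroup.ker_mk' _
    have h1 := (H1.le_fittingOf (lfs_le _ n) (le_normalizer.trans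
      (normalizer_le_normalizer_lfs _ n)) (res_eq_bot_iff.1 h0)).trans h.fit_le
    have h2 := ih _ _ _ _ (h.map f (QuotientGroup.mk'_surjective _)) (by
      rintro _ ⟨y, hy, rfl⟩
      rw [← map_pow, hR y hy, map_one]) (by
      rw [h.cent_map, ← lfs_le_ker_iff, hk]
      exact h1)
    rw [← lfs_le_ker_iff, hk] at h2
    exact res_eq_bot_iff.2 (isNilpotent_of_le (H1.fittingOf_isNilpotent X) h2)

theorem dich_of_prime {p : ℕ} (hp : p.Prime) (h : Nat.card R = p) (B : Subgroup Γ) :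
    R ⊓ B = ⊥ ∨ R ≤ B :=
  ((Nat.dvd_prime hp).1 (h ▸ card_dvd_of_le (inf_le_left : R ⊓ B ≤ R))).imp card_eq_one.1 fun e =>
    inf_eq_left.1 (eq_of_le_of_card_ge inf_le_left (h.trans e.symm).le)

theorem ec_of (hS : Sol.{u}) {r s : ℕ} (hr : r.Prime) (hs : s.Prime) (hR : Nat.card R = r)
    (hF : IsExtraspecial s F) (hRF : R ≤ 𝐍(F)) (hcomm : ⁅F, R⁆ = F) (hRX : R ≤ 𝐍(X))
    (hFX : F ≤ 𝐍(X)) (hdisj : (R ⊔ F) ⊓ X = ⊥) (hcop : ¬ r ∣ Nat.card X) (hCF : X ⊓ 𝐂(F) = ⊥) :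
    EC (X.subgroupOf 𝐍(X)) (F.subgroupOf 𝐍(X)) (R.subgroupOf 𝐍(X)) := by
  have := Fact.mk hr
  have := Fact.mk hs
  have pF : IsPGroup s F := hF.1.1
  have pR : IsPGroup r R := IsPGroup.of_card (n := 1) (by rw [hR, pow_one])
  have c : Cfg X F := ⟨hFX, pF.isNilpotent,
    eq_bot_iff.2 fun x hx => hdisj.le ⟨mem_sup_right hx.2, hx.1⟩, hCF⟩
  have h1 : Nat.card ↥⁅F, F⁆ = s := by
    rw [← hF.2, ← hF.1.2.2, ← card_map_of_injective (K := commutator F) F.subtype_injective,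
      commutator_def, map_commutator, ← MonoidHom.range_eq_map, range_subtype]
  have hF0 : F ≠ ⊥ := fun e => hs.one_lt.ne' (by rw [← h1, e]; simp)
  have hrs : r ≠ s := by
    rintro rfl
    obtain ⟨x, x1, x2, x3⟩ := exists_commutator_mem_of_lt (L := F ⊔ R) (R := F) (Z := ⁅F, F ⊔ R⁆)
      (isPGroup_sup' hRF pF pR).isNilpotent le_sup_left
      (le_normalizer_commutator (sup_le le_normalizer hRF) le_normalizer)
      (sup_le le_normalizer hRF) fun e => hF0 (eq_bot_of_le_commutator_of_isNilpotent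
        (isPGroup_sup' hRF pF pR).isNilpotent le_sup_left e)
    exact x2 ((hcomm.ge.trans (commutator_mono le_rfl le_sup_right)) x1)
  have hsX : ¬ s ∣ Nat.card X := fun e => by
    obtain ⟨P, p1, p2⟩ := c.exists_sylow s
    obtain ⟨x, x1, x2, x3⟩ := exists_commutator_mem_of_lt (L := P ⊔ F) (R := P) (Z := ⊥)
      (isPGroup_sup' p2 p1.isPGroup pF).isNilpotent le_sup_left le_normalizer_of_normal
      (sup_le le_normalizer p2) fun e' => p1.ne_bot e (le_bot_iff.1 e')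
    exact x2 (hCF.le ⟨p1.le x1, fun f hf => (commutatorElement_eq_one_iff_mul_comm.1
      (mem_bot.1 (x3 f (mem_sup_right hf)))).symm⟩)
  have e0 : EF F R := ⟨hRF, coprime_of_isPGroup_ne pR pF hrs, hcomm, dich_of_prime hr hR,
    dich_of_prime hs h1⟩
  have eX := subgroupOfEquivOfLe (le_normalizer : X ≤ 𝐍(X))
  have := hS _ _ _ c
  refine ⟨e0.subgroupOf hFX hRX, normal_in_normalizer,
    solvable_of_solvable_injective (f := eX.toMonoidHom) eX.injective, ?_, ?_, eq_bot_iff.2 ?_⟩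
  · rw [Nat.card_congr eX.toEquiv, Nat.card_congr (subgroupOfEquivOfLe hRX).toEquiv, hR]
    exact hr.coprime_iff_not_dvd.2 hcop
  · rw [Nat.card_congr eX.toEquiv, Nat.card_congr (subgroupOfEquivOfLe hFX).toEquiv]
    exact (coprime_card_of_isPGroup (hs.coprime_iff_not_dvd.2 hsX).symm pF).symm
  · exact fun x hx => mem_bot.2 (Subtype.ext (mem_bot.1 (hCF.le ⟨hx.1, fun f hf =>
      congrArg Subtype.val (hx.2 ⟨f, hFX hf⟩ hf)⟩)))

omit [Finite Γ] in
theorem map_cent_sub (hRX : R ≤ 𝐍(X)) :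
    (X.subgroupOf 𝐍(X) ⊓ 𝐂(R.subgroupOf 𝐍(X))).map 𝐍(X).subtype = X ⊓ 𝐂(R) := by
  rw [map_inf _ _ _ 𝐍(X).subtype_injective, H1.map_subtype_centralizer,
    map_subgroupOf_eq_of_le le_normalizer, map_subgroupOf_eq_of_le hRX, ← inf_assoc,
    inf_eq_left.2 le_normalizer]

theorem s4360 (hS : Sol.{u}) (R F X : Subgroup Γ) (r s : ℕ) (hr : r.Prime) (hs : s.Prime)
    (hR : Nat.card R = r) (hF : IsExtraspecial s F) (hRF : R ≤ 𝐍(F)) (hcomm : ⁅F, R⁆ = F)
    (hRX : R ≤ 𝐍(X)) (hFX : F ≤ 𝐍(X)) (hdisj : (R ⊔ F) ⊓ X = ⊥) (hcop : ¬ r ∣ Nat.card X)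
    (hCF : X ⊓ 𝐂(F) = ⊥) : fittingOf (X ⊓ 𝐂(R)) ≤ fittingOf X := by
  have h := ec_of hS hr hs hR hF hRF hcomm hRX hFX hdisj hcop hCF
  refine H1.fittingOf_le_of_forall fun q _ => le_trans ?_ (H1.pCoreOf_le_fittingOf q X)
  have := map_mono (f := 𝐍(X).subtype) (h.pCore_le q)
  rwa [H1.map_pCoreOf_of_injective _ 𝐍(X).subtype_injective,
    H1.map_pCoreOf_of_injective _ 𝐍(X).subtype_injective, map_cent_sub hRX,
    map_subgroupOf_eq_of_le le_normalizer] at this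

theorem chain_iff (K : Subgroup Γ) (n : ℕ) :
    (∃ F : Fin (n + 1) → Subgroup K, F 0 = ⊥ ∧ F (Fin.last n) = ⊤ ∧ Monotone F ∧
      (∀ i, (F i).Normal) ∧ ∀ i : Fin n, ∃ k : ℕ, (F i.succ).lowerCentralSeries k ≤ F i.castSucc) ↔
      lfs K n = ⊥ := by
  have : lfs (⊤ : Subgroup K) n = ⊥ ↔ lfs K n = ⊥ := by
    rw [← map_eq_bot_iff_of_injective _ K.subtype_injective, map_lfs, ← MonoidHom.range_eq_map,
      range_subtype]
  exact ⟨fun h => this.1 (lfs_of_chain h), fun h => chain_of_lfs (this.2 h)⟩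

theorem s4361 (hS : Sol.{u}) (R F X : Subgroup Γ) (r s : ℕ) (hr : r.Prime)
    (hnF : ¬ ∃ k : ℕ, r = 2 ^ k + 1) (hs : s.Prime)
    (hR : Nat.card R = r) (hF : IsExtraspecial s F) (hRF : R ≤ 𝐍(F)) (hcomm : ⁅F, R⁆ = F)
    (hRX : R ≤ 𝐍(X)) (hFX : F ≤ 𝐍(X)) (hdisj : (R ⊔ F) ⊓ X = ⊥) (hcop : ¬ r ∣ Nat.card X)
    (hCF : X ⊓ 𝐂(F) = ⊥) (n : ℕ) : lfs X n = ⊥ ↔ lfs (X ⊓ 𝐂(R)) n = ⊥ := by
  refine ⟨fun e => eq_bot_iff.2 (e ▸ lfs_mono inf_le_left n), fun e => ?_⟩
  have h := ec_of hS hr hs hR hF hRF hcomm hRX hFX hdisj hcop hCF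
  have := height hr hnF n _ _ _ _ h (fun y hy => Subtype.ext (by
      have := pow_card_eq_one' (x := (⟨y, hy⟩ : R))
      rw [hR] at this
      exact congrArg (fun z : R => (z : Γ)) this))
    (lfs_eq_bot_of_map 𝐍(X).subtype_injective (by rwa [map_cent_sub hRX]))
  have h2 := congrArg (map 𝐍(X).subtype) this
  rwa [map_lfs, map_subgroupOf_eq_of_le le_normalizer, Subgroup.map_bot] at h2

end CfsgLib.NF
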