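import Cfsg.Agent.Lib.NF.Wr
import Cfsg.Agent.Lib.FpfPack

/-! Modules for a group `FR` with `R` of prime order, `F'` of prime order, `[F, R] = F`. -/

set_option autoImplicit false

namespace CfsgLib.NF

open Subgroup CfsgLib.H9 CfsgLib.Cop CfsgLib.H8Fpf CfsgLib.CommCalc
open scoped commutatorElement

/-- the operator group -/
structure EF {Y : Type*} [Group Y] (F R : Subgroup Y) : Prop where
  norm : R ≤ normalizer (F : Set Y)
  cop : (Nat.card R).Coprime (Nat.card F)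
  comm : ⁅F, R⁆ = F
  dR : ∀ B : Subgroup Y, R ⊓ B = ⊥ ∨ R ≤ B
  dF : ∀ B : Subgroup Y, ⁅F, F⁆ ⊓ B = ⊥ ∨ ⁅F, F⁆ ≤ B

variable {k : Type*} [Field k] {W : Type*} [AddCommGroup W] [Module k W] {Y : Type*} [Group Y]
  [Finite Y] {ρ : Y →* Module.End k W} {Q F R : Subgroup Y}

theorem exists_weight_ne_one [IsAlgClosed k] [FiniteDimensional k W] {Z : Subgroup Y}
    (hc : ∀ g ∈ ⁅Z, Z⁆, ρ g = 1) {u : Y} (hu : u ∈ Z) (hu' : (Nat.card (zpowers u) : k) ≠ 0)
    (hne : ρ u ≠ 1) : ∃ (ψ : Y → k) (v : W), v ≠ 0 ∧ v ∈ weightSpace ρ Z ψ ∧ ψ u ≠ 1 ∧ ψ 1 ≠ 0 := by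
  obtain ⟨U, ψ, a1, a2, -, a4⟩ := exists_central_weight (ρ := ρ) (le_refl Z)
    (U₀ := LinearMap.range (ρ u - 1)) (fun e => hne (sub_eq_zero.1 (LinearMap.range_eq_bot.1 e)))
    (by
      rintro g hg _ ⟨v, rfl⟩
      refine ⟨ρ g v, ?_⟩
      have : ρ u * ρ g = ρ g * ρ u := by
        have := hc _ (commutator_mem_commutator hu hg)
        rw [← map_mul, ← map_mul, ← one_mul (ρ (g * u)), ← this, ← map_mul,
          commutatorElement_def]
        congr 1; group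
      have := LinearMap.congr_fun this v
      simp only [Module.End.mul_apply] at this
      simp [this]) fun g hg v _ => by rw [hc g hg]; rfl
  obtain ⟨v, hv, hv0⟩ := (Submodule.ne_bot_iff _).1 a2
  refine ⟨ψ, v, hv0, a4 hv, fun e => ?_, fun e => hv0 (by simpa [e] using a4 hv 1 (one_mem _))⟩
  obtain ⟨x, rfl⟩ := a1 hv
  refine hv0 (eq_zero_of_mem_ker_normOp hu' (sub_mem_ker_normOp (mem_zpowers u) x) ?_)
  refine fun g hg => zpowers_le_of_mem (H := fixSub ρ (Submodule.span k {(ρ u - 1) x}))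
    (fun y hy => ?_) hg _ (Submodule.mem_span_singleton_self _)
  rw [(Submodule.span_singleton_le_iff_mem _ _).2 (a4 hv) hy u hu, e, one_smul]

/-- the case of a group acting as an abelian group -/
theorem EF.abel [IsAlgClosed k] [FiniteDimensional k W] (h : EF F R)
    (hFk : (Nat.card F : k) ≠ 0) (h0 : normOp ρ F = 0) (hFQ : F ≤ normalizer (Q : Set Y))
    (hRQ : R ≤ normalizer (Q : Set Y))
    (hfp : ∀ N ≤ Q, F ≤ normalizer (N : Set Y) → ∀ g ∈ Q, (∀ f ∈ F, ⁅g, f⁆ ∈ N) → g ∈ N)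
    (hc : ∀ g ∈ ⁅Q, Q⁆, ρ g = 1) {x : Y} (hx : x ∈ Q) (hx' : (Nat.card (zpowers x) : k) ≠ 0)
    (h1 : ∀ w, ρ x (normOp ρ R w) = normOp ρ R w) : ρ x = 1 := by
  by_contra hne
  obtain ⟨ψ, v, hv0, hv, hψ, hψ1⟩ := exists_weight_ne_one hc hx hx' hne
  have c1 : ∀ f ∈ F, ψ (f⁻¹ * x * f) ≠ 1 → ∀ r ∈ R,
      f⁻¹ * r * f ∈ stabSub ρ (weightSpace ρ Q ψ) := by
    intro f hf e r hr u hu
    have h2 := normOp_inf_stab_weight (ψ := fun z => ψ (f⁻¹ * z * f)) hRQ hx e
      (rho_mem_weightSpace_conj hv (hFQ hf)) (by rw [h1, one_smul])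
    rcases h.dR (stabSub ρ (weightSpace ρ Q fun z => ψ (f⁻¹ * z * f))) with h3 | h3
    · rw [h3, Fpf.normOp_bot] at h2
      exact absurd (rho_injective ρ f (h2.trans (map_zero _).symm)) hv0
    · have := rho_mem_weightSpace_conj (h3 hr _ (rho_mem_weightSpace_conj hu (hFQ hf)))
        (inv_mem (hFQ hf))
      simpa [rho_mul_apply, mul_assoc] using this
  have c2 : R ≤ stabSub ρ (weightSpace ρ Q ψ) := fun r hr => by
    simpa using c1 1 (one_mem _) (by simpa using hψ) r hr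
  rcases h.dF (stabSub ρ (weightSpace ρ Q ψ)) with h2 | h2
  · have sm : Semi (F ⊓ stabSub ρ (weightSpace ρ Q ψ)) (R ⊓ stabSub ρ (weightSpace ρ Q ψ)) :=
      ⟨fun _ hr => inf_normalizer_le_normalizer_inf ⟨h.norm hr.1, le_normalizer hr.2⟩,
        fun r hr r1 f hf e => by
          have h3 : R ≤ centralizer {f} := (h.dR _).resolve_left fun e' =>
            r1 (mem_bot.1 (e'.le ⟨hr.1, mem_centralizer_singleton_iff.2 e⟩))
          exact mem_bot.1 (h2.le ⟨inf_centralizer_le_commutator_of_eq h.norm h.cop h.comm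
            ⟨hf.1, fun y hy => mem_centralizer_singleton_iff.1 (h3 hy)⟩, hf.2⟩)⟩
    have hK' : (Nat.card (F ⊓ stabSub ρ (weightSpace ρ Q ψ) : Subgroup Y) : k) ≠ 0 := fun e => by
      obtain ⟨m, hm⟩ := card_dvd_of_le (inf_le_left : F ⊓ stabSub ρ (weightSpace ρ Q ψ) ≤ F)
      exact hFk (by rw [hm, Nat.cast_mul, e, zero_mul])
    refine hv0 ((smul_eq_zero.1 (sm.card_smul_eq_zero (ρ := ρ) (fun r hr => ?_)
      fun f hf => ?_)).resolve_left hK')
    · exact normOp_inf_stab_weight hFQ (one_mem _) hψ1 (hr.2 v hv) (by simp [h0])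
    · exact normOp_inf_stab_weight hRQ hx hψ (hf.2 v hv) (by rw [h1, one_smul])
  · have := wreath_elt (U := weightSpace ρ Q ψ) hFQ hfp hx (c := ψ x) (fun u hu => hu x hx)
      (fun f hf hf' u hu => by
        rw [rho_mem_weightSpace_conj hu (hFQ hf) x hx]
        by_cases e : ψ (f⁻¹ * x * f) = 1
        · simp only [e, one_smul]
        have h5 : f⁻¹ ∈ F ⊓ stabSub ρ (weightSpace ρ Q ψ) :=
          mem_of_mem_commutator_sup_of_commutator_mem h.norm
            (fun r hr => inf_normalizer_le_normalizer_inf ⟨h.norm hr, le_normalizer (c2 hr)⟩)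
            inf_le_left (le_inf (commutator_le_left_of_le_normalizer le_normalizer) h2) h.cop
            (mem_sup_left (h.comm.ge (inv_mem hf))) fun r hr =>
              ⟨commutator_le_left_of_le_normalizer h.norm
                (commutator_mem_commutator (inv_mem hf) hr), by
                simpa [commutatorElement_def] using mul_mem (c1 f hf e r hr) (inv_mem (c2 hr))⟩
        exact absurd (inv_mem_iff.1 (mem_inf.1 h5).2) hf') v hv
    exact hψ (smul_left_injective k hv0 (this.trans (one_smul k v).symm))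

/-- elements acting on `U` commuting with `x` -/
def comSub (ρ : Y →* Module.End k W) (U : Submodule k W) (x : Y) : Subgroup Y where
  carrier := {g | g ∈ stabSub ρ U ∧ ∀ v ∈ U, ρ g (ρ x v) = ρ x (ρ g v)}
  one_mem' := ⟨one_mem _, by simp⟩
  mul_mem' := by
    rintro a b ⟨a1, a2⟩ ⟨b1, b2⟩
    refine ⟨mul_mem a1 b1, fun v hv => ?_⟩
    rw [rho_mul_apply, rho_mul_apply, b2 v hv, a2 _ (b1 v hv)]
  inv_mem' := by
    rintro a ⟨a1, a2⟩
    refine ⟨inv_mem a1, fun v hv => rho_injective ρ a ?_⟩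
    rw [rho_apply_inv_apply, a2 _ (inv_mem a1 v hv), rho_apply_inv_apply]

theorem second_center [IsAlgClosed k] [FiniteDimensional k W]
    (dR : ∀ B : Subgroup Y, R ⊓ B = ⊥ ∨ R ≤ B) (hRQ : R ≤ normalizer (Q : Set Y))
    (hs : Group.IsSolvable Q) (hcop : (Nat.card R).Coprime (Nat.card Q))
    (hQk : (Nat.card Q : k) ≠ 0) {x : Y} (hx : x ∈ Q) (hxR : x ∈ centralizer (R : Set Y))
    (h1 : ∀ w, ρ x (normOp ρ R w) = normOp ρ R w)
    (h2 : ∀ c ∈ Q ⊓ centralizer (R : Set Y), ⁅x, c⁆ ∈ ρ.ker) {y : Y}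
    (hy : y ∈ Q ⊓ relCent (Q ⊓ relCent ρ.ker Q) Q) : ⁅x, y⁆ ∈ ρ.ker := by
  by_contra hne
  set Z := Q ⊓ relCent ρ.ker Q with hZ
  have nZ : ∀ B : Subgroup Y, B ≤ normalizer (Q : Set Y) → B ≤ normalizer (Z : Set Y) :=
    fun B hB => H1.le_normalizer_inf hB (H9.le_normalizer_relCent le_normalizer_of_normal hB)
  have hz : ∀ y ∈ Q ⊓ relCent Z Q, ∀ g ∈ Q, ⁅g, y⁆ ∈ Z := fun y hy g hg => by
    rw [← commutatorElement_inv]; exact inv_mem (hy.2.2 g hg)
  have hcm : ∀ z ∈ Z, ∀ g ∈ Q, ∀ w, ρ z (ρ g w) = ρ g (ρ z w) := fun z hz g hg w => by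
    have : ρ ⁅z, g⁆ = 1 := hz.2.2 g hg
    rw [← rho_mul_apply, ← rho_mul_apply, show z * g = ⁅z, g⁆ * (g * z) by
      rw [commutatorElement_def]; group, map_mul, this, one_mul]
  obtain ⟨ψ, v, hv0, hv, hψ, hψ1⟩ := exists_weight_ne_one (ρ := ρ) (Z := Z)
    (commutator_le.2 (fun a ha b hb => ha.2.2 b hb.1) : ⁅Z, Z⁆ ≤ ρ.ker) (hz y hy x hx)
    (fun e => by
      obtain ⟨m, hm⟩ := card_dvd_of_le (zpowers_le.2 (hz y hy x hx).1)
      exact hQk (by rw [hm, Nat.cast_mul, e, zero_mul])) hne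
  set U := weightSpace ρ Z ψ with hU
  have hQU : Q ≤ stabSub ρ U := fun g hg u hu z hz => by
    rw [hcm z hz g hg, hu z hz, map_smul]
  suffices y ∈ comSub ρ U x by
    have h3 := hv _ (hz y hy x hx)
    have h4 := inv_mem (hQU hy.1) _ (inv_mem (hQU hx) v hv)
    simp only [commutatorElement_def, rho_mul_apply] at h3
    rw [← this.2 _ (inv_mem (hQU hx) _ (inv_mem (hQU hy.1) v hv)), rho_apply_inv_apply,
      rho_apply_inv_apply] at h3
    exact hψ (smul_left_injective k hv0 (h3.symm.trans (one_smul k v).symm))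
  rcases dR (stabSub ρ U) with h3 | h3
  · have h4 : ∀ u ∈ U, ρ x u = u := fun u hu => by
      have h5 : normOp ρ R (ρ x u - u) = 0 := by
        have := LinearMap.congr_fun (rho_normOp_comm (ρ := ρ) (centralizer_le_normalizer _ hxR)) u
        simp only [Module.End.mul_apply] at this
        rw [map_sub, ← this, h1, sub_self]
      have := normOp_inf_stab_weight (nZ R hRQ) (one_mem _) hψ1 (U.sub_mem (hQU hx u hu) hu)
        (by simp [h5])
      rw [h3, Fpf.normOp_bot] at this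
      exact sub_eq_zero.1 this
    exact ⟨hQU hy.1, fun u hu => by rw [h4 u hu, h4 _ (hQU hy.1 u hu)]⟩
  have hR2 : R ≤ normalizer ((Q ⊓ relCent Z Q : Subgroup Y) : Set Y) :=
    H1.le_normalizer_inf hRQ (H9.le_normalizer_relCent (nZ R hRQ) hRQ)
  rw [← commutator_sup_centralizer hR2 (hcop.coprime_dvd_right (card_dvd_of_le inf_le_left))
    (Or.inr (isSolvable_of_le hs inf_le_left))] at hy
  refine (sup_le (commutator_le.2 fun a ha r hr => ?_) fun c hc => ?_ : _ ≤ comSub ρ U x) hy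
  · have a1 := hQU ha.1
    have r1 := h3 hr
    refine ⟨mul_mem (mul_mem (mul_mem a1 r1) (inv_mem a1)) (inv_mem r1), fun u hu => ?_⟩
    have e0 : ∀ w ∈ U, ρ a⁻¹ (ρ x w) = ψ ⁅x⁻¹, a⁻¹⁆ • ρ x (ρ a⁻¹ w) := fun w hw => by
      rw [← map_smul, ← inv_mem a1 w hw _ (hz _ (inv_mem ha) _ (inv_mem hx)), ← rho_mul_apply,
        ← rho_mul_apply, ← rho_mul_apply]
      congr 2
      rw [commutatorElement_def]; group
    have e1 : ∀ s ∈ R, ∀ w, ρ s (ρ x w) = ρ x (ρ s w) := fun s hs w => by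
      rw [← rho_mul_apply, ← rho_mul_apply, hxR s hs]
    have e2 : ∀ w ∈ U, ρ a (ψ ⁅x⁻¹, a⁻¹⁆ • ρ x w) = ρ x (ρ a w) := fun w hw => by
      have := e0 _ (a1 w hw)
      rw [rho_inv_apply_apply] at this
      rw [← this, rho_apply_inv_apply]
    simp only [commutatorElement_def, rho_mul_apply]
    rw [e1 _ (inv_mem hr), e0 _ (inv_mem r1 u hu), map_smul, e1 _ hr,
      e2 _ (r1 _ (inv_mem a1 _ (inv_mem r1 u hu)))]
  · refine ⟨hQU hc.1.1, fun u _ => ?_⟩
    have : ρ ⁅x, c⁆ = 1 := h2 c ⟨hc.1.1, hc.2⟩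
    rw [← rho_mul_apply, ← rho_mul_apply, show x * c = ⁅x, c⁆ * (c * x) by
      rw [commutatorElement_def]; group, map_mul ρ ⁅x, c⁆, this, one_mul]

/-- the normal closure of `x` under `F` -/
theorem EF.rho_eq_one [IsAlgClosed k] [FiniteDimensional k W] (h : EF F R)
    (hFk : (Nat.card F : k) ≠ 0) (h0 : normOp ρ F = 0) (Q : Subgroup Y) :
    F ≤ normalizer (Q : Set Y) → R ≤ normalizer (Q : Set Y) → Group.IsNilpotent Q →
    (Nat.card R).Coprime (Nat.card Q) → (Nat.card Q : k) ≠ 0 →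
    (∀ N ≤ Q, F ≤ normalizer (N : Set Y) → ∀ g ∈ Q, (∀ f ∈ F, ⁅g, f⁆ ∈ N) → g ∈ N) →
    ∀ x ∈ Q, x ∈ centralizer (R : Set Y) → (∀ w, ρ x (normOp ρ R w) = normOp ρ R w) →
      ρ x = 1 := by
  induction Q using WellFoundedLT.induction with
  | ind Q ih =>
  intro hFQ hRQ hnil hcop hQk hfp x₀ a1 a2 a3
  by_contra a4
  have hk : ∀ B ≤ Q, (Nat.card B : k) ≠ 0 := fun B hB e => by
    obtain ⟨m, hm⟩ := card_dvd_of_le hB
    exact hQk (by rw [hm, Nat.cast_mul, e, zero_mul])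
  have hst : centralizer (R : Set Y) ≤ stabSub ρ (LinearMap.range (normOp ρ R)) := by
    rintro c hc _ ⟨w, rfl⟩
    exact ⟨ρ c w, (LinearMap.congr_fun
      (rho_normOp_comm (ρ := ρ) (centralizer_le_normalizer _ hc)) w).symm⟩
  obtain ⟨x, ⟨⟨hx, hxR⟩, h1⟩, hne, h2⟩ := exists_commutator_mem_of_lt
    (L := Q ⊓ centralizer (R : Set Y)) (Z := ρ.ker)
    (R := Q ⊓ centralizer (R : Set Y) ⊓ fixSub ρ (LinearMap.range (normOp ρ R)))
    (isNilpotent_of_le hnil inf_le_left) inf_le_left le_normalizer_of_normal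
    (H1.le_normalizer_inf le_normalizer fun c hc => mem_normalizer_fixSub (hst hc.2))
    fun e => a4 (e ⟨⟨a1, a2⟩, by rintro _ ⟨w, rfl⟩; exact a3 w⟩)
  replace h1 : ∀ w, ρ x (normOp ρ R w) = normOp ρ R w := fun w => h1 _ ⟨w, rfl⟩
  let S : Set Y := {y | ∃ f ∈ F, y = f * x * f⁻¹}
  have hS : ∀ g : Y, (∀ y ∈ S, g * y * g⁻¹ ∈ S) → g ∈ normalizer (closure S : Set Y) :=
    fun g hg => mem_normalizer_of_conj_mem fun y hy =>
      (closure_le ((closure S).comap (MulAut.conj g).toMonoidHom)).2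
        (fun z hz => subset_closure (hg z hz)) hy
  have hSQ : closure S ≤ Q := (closure_le _).2 (by
    rintro _ ⟨f, hf, rfl⟩
    exact (mem_normalizer_iff.1 (hFQ hf) x).1 hx)
  have hxS : x ∈ closure S := subset_closure ⟨1, one_mem _, by simp⟩
  rcases hSQ.lt_or_eq with hlt | heq
  · refine hne (ih _ hlt (fun f hf => hS f ?_) (fun r hr => hS r ?_) (isNilpotent_of_le hnil hSQ)
      (hcop.coprime_dvd_right (card_dvd_of_le hSQ)) (hk _ hSQ)
      (fun N hN h3 g hg => hfp N (hN.trans hSQ) h3 g (hSQ hg)) x hxS hxR h1)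
    · rintro _ ⟨f', hf', rfl⟩
      exact ⟨f * f', mul_mem hf hf', by group⟩
    · rintro _ ⟨f', hf', rfl⟩
      refine ⟨r * f' * r⁻¹, (mem_normalizer_iff.1 (h.norm hr) f').1 hf', ?_⟩
      calc r * (f' * x * f'⁻¹) * r⁻¹ = r * f' * r⁻¹ * (r * x) * (f'⁻¹ * r⁻¹) := by group
        _ = _ := by rw [hxR r hr]; group
  have nZ : ∀ B : Subgroup Y, B ≤ normalizer (Q : Set Y) →
      B ≤ normalizer ((Q ⊓ relCent ρ.ker Q : Subgroup Y) : Set Y) :=
    fun B hB => H1.le_normalizer_inf hB (H9.le_normalizer_relCent le_normalizer_of_normal hB)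
  refine hne (h.abel hFk h0 hFQ hRQ hfp ?_ hx (hk _ (zpowers_le.2 hx)) h1)
  suffices Q ≤ Q ⊓ relCent ρ.ker Q from
    (commutator_le.2 fun a ha b hb => (this ha).2.2 b hb : ⁅Q, Q⁆ ≤ ρ.ker)
  by_contra hc
  obtain ⟨y, y1, y2, y3⟩ := exists_commutator_mem_of_lt hnil le_rfl (nZ Q le_normalizer)
    le_normalizer hc
  have hy : y ∈ Q ⊓ relCent (Q ⊓ relCent ρ.ker Q) Q := ⟨y1, nZ Q le_normalizer y1, y3⟩
  have h3 : F ≤ normalizer ((Q ⊓ relCent (Q ⊓ relCent ρ.ker Q) Q : Subgroup Y) : Set Y) :=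
    H1.le_normalizer_inf hFQ (H9.le_normalizer_relCent (nZ F hFQ) hFQ)
  have h4 : closure S ≤ relCent ρ.ker {y} := (closure_le _).2 (by
    rintro _ ⟨f, hf, rfl⟩
    refine ⟨le_normalizer_of_normal (K := ⊤) trivial, ?_⟩
    rintro _ rfl
    have := second_center h.dR hRQ (haveI := hnil; inferInstance) hcop hQk hx hxR h1 h2
      ((mem_normalizer_iff.1 (inv_mem (h3 hf)) _).1 hy)
    have := ρ.normal_ker.conj_mem _ this f
    convert this using 1
    simp only [commutatorElement_def]; group)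
  refine y2 ⟨y1, le_normalizer_of_normal (K := ⊤) trivial, fun t ht => ?_⟩
  rw [← commutatorElement_inv]
  exact inv_mem ((h4 (heq.ge ht)).2 y rfl)

end CfsgLib.NF
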